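import Groth.Agent.AmpleX.BaseChange
import Groth.Agent.AmpleX.Comp
import Groth.Agent.AmpleX.Proj
import Groth.Agent.AmpleX.RelAffine
import Groth.Agent.PnCoh.Chow.Proper
import Groth.Agent.PnCoh.Chow.RelEmb
import Groth.Prelude.Def_RelProj

/-!
# Immersions in projective space give quasi-projective morphisms
-/

set_option linter.style.haveILetI false
set_option backward.isDefEq.respectTransparency false
set_option backward.isDefEq.respectTransparency.types false

universe u

open CategoryTheory CategoryTheory.Limits AlgebraicGeometry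
open CohB1 (ProjSpaceOver)

namespace Groth.Agent.ChowX

open Groth.Agent

/-- `O(1)` is ample relative to `P^n_S → S`. -/
theorem isRelAmple_twistOver (n : ℕ) (S : Scheme.{u}) :
    RelAmple.IsRelAmple (CohB1.ProjSpaceOver.toBase n S) (Twist.twistOver n S 1) := by
  classical
  have hamp : CohB1.IsAmple (Twist.twistProjSpace n (ULift.{u} ℤ) 1) := by
    refine AmpleX.isAmple_twist_one _ (Finset.univ.image fun j : Fin (n + 1) => MvPolynomial.X j) ?_ ?_
    · intro g hg
      obtain ⟨j, -, rfl⟩ := Finset.mem_image.1 hg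
      exact ProjPt.X_mem j
    · refine eq_top_iff.2 fun y _ => ?_
      obtain ⟨j, hj⟩ := PnCoh.Chow.cov_coord _ y
      exact TopologicalSpace.Opens.mem_iSup.2 ⟨⟨_, Finset.mem_image_of_mem _ (Finset.mem_univ j.down)⟩, hj⟩
  haveI : IsProper (CohB1.ProjSpace.toSpec n (ULift.{u} ℤ)) := PnCoh.Chow.isProper_toSpec n _
  exact AmpleX.isRelAmple_baseChange (CohB1.ProjSpace.toSpec n (ULift.{u} ℤ)) (specULiftZIsTerminal.from S)
    ((AmpleX.isRelAmple_iff_isAmple (CohB1.ProjSpace.toSpec n (ULift.{u} ℤ)) _).2 hamp)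

theorem isQuasiProjective_of_immersion {X S : Scheme.{u}} {n : ℕ} (j : X ⟶ ProjSpaceOver n S) [IsImmersion j]
    [QuasiCompact j] (f : X ⟶ S) (h : j ≫ CohB1.ProjSpaceOver.toBase n S = f) : RelProj.IsQuasiProjective f := by
  subst h
  haveI : IsProper (CohB1.ProjSpace.toSpec n (ULift.{u} ℤ)) := PnCoh.Chow.isProper_toSpec n _
  haveI : IsProper (CohB1.ProjSpaceOver.toBase n S) := MorphismProperty.pullback_snd _ _ inferInstance
  exact ⟨inferInstance, inferInstance, _,
    AmpleX.isRelAmple_pullback_embedding (CohB1.ProjSpaceOver.toBase n S) j j.isEmbedding (isRelAmple_twistOver n S)⟩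

end Groth.Agent.ChowX
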