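import Groth.Agent.ChowX.Core

/-!
# Chow's lemma
-/

set_option linter.style.haveILetI false
set_option backward.isDefEq.respectTransparency false
set_option backward.isDefEq.respectTransparency.types false

universe u

open CategoryTheory CategoryTheory.Limits AlgebraicGeometry TopologicalSpace
open CohB1 (ProjSpaceOver)

namespace Groth.Agent.ChowX

variable {X S : Scheme.{u}}

theorem quasiSeparatedSpace_of_isSeparated (r : X ⟶ S) [IsSeparated r] [QuasiSeparatedSpace S] :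
    QuasiSeparatedSpace X :=
  quasiSeparatedSpace_of_quasiSeparated r

theorem quasiCompact_ι [QuasiSeparatedSpace X] (W : X.Opens) (hW : IsCompact (W : Set X)) : QuasiCompact W.ι := by
  haveI : CompactSpace (W : Scheme.{u}) := isCompact_iff_compactSpace.1 hW
  haveI : QuasiCompact (W.ι ≫ terminal.from X) := inferInstance
  exact QuasiCompact.of_comp W.ι (terminal.from X)

theorem exists_affine_cover (X : Scheme.{u}) [CompactSpace X] :
    ∃ (k : ℕ) (U : Fin (k + 1) → X.Opens), (∀ i, IsAffineOpen (U i)) ∧ ∀ x : X, ∃ i, x ∈ U i := by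
  classical
  choose A hA hxA using fun x : X =>
    let ⟨_, ⟨V, hV, rfl⟩, hx, _⟩ := X.isBasis_affineOpens.exists_subset_of_mem_open (Set.mem_univ x) isOpen_univ
    (⟨V, hV, hx⟩ : ∃ V : X.Opens, IsAffineOpen V ∧ x ∈ V)
  obtain ⟨t, ht⟩ := isCompact_univ.elim_finite_subcover (fun x => (A x : Set X)) (fun x => (A x).isOpen)
    fun x _ => Set.mem_iUnion.2 ⟨x, hxA x⟩
  refine ⟨t.card, Fin.cases ⊥ fun i => A (t.equivFin.symm i).1, fun i => ?_, fun x => ?_⟩
  · induction i using Fin.cases with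
    | zero => exact isAffineOpen_bot X
    | succ i => exact hA _
  · obtain ⟨y, hyt, hy⟩ := Set.mem_iUnion₂.1 (ht (Set.mem_univ x))
    exact ⟨(t.equivFin ⟨y, hyt⟩).succ, by simpa using hy⟩

/-- An affine cover whose members all contain a quasi-compact dense open. -/
theorem exists_cover_dense [CompactSpace X] [QuasiSeparatedSpace X] (h : (irreducibleComponents X).Finite) :
    ∃ (k : ℕ) (U : Fin (k + 1) → X.Opens) (W : X.Opens), (∀ i, IsAffineOpen (U i)) ∧ (∀ x : X, ∃ i, x ∈ U i) ∧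
      (∀ i, W ≤ U i) ∧ QuasiCompact W.ι ∧ Dense (W : Set X) := by
  classical
  obtain ⟨k, A, hA, hcov⟩ := exists_affine_cover X
  let C := {Z : Set X // Z ∈ irreducibleComponents X}
  haveI : Finite C := h.to_subtype
  have hClosed : ∀ Z : C, IsClosed Z.1 := fun Z => isClosed_of_mem_irreducibleComponents _ Z.2
  have hgen : ∀ Z : C, ∃ η : X, IsGenericPoint η Z.1 := fun Z => QuasiSober.sober Z.2.1 (hClosed Z)
  choose η hη using hgen
  let O : C → X.Opens := fun Z =>
    ⟨(⋃ Z' : {Z' : C // Z' ≠ Z}, Z'.1.1)ᶜ, (isClosed_iUnion_of_finite fun Z' : {Z' : C // Z' ≠ Z} => hClosed Z'.1).isOpen_compl⟩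
  have hcovC : ∀ x : X, ∃ Z : C, x ∈ Z.1 := fun x =>
    ⟨⟨irreducibleComponent x, irreducibleComponent_mem_irreducibleComponents x⟩, mem_irreducibleComponent⟩
  have hOle : ∀ Z : C, ∀ x ∈ O Z, x ∈ Z.1 := fun Z x hx => by
    obtain ⟨Z', hZ'⟩ := hcovC x
    by_contra hne
    exact hx (Set.mem_iUnion.2 ⟨⟨Z', fun e => hne (e ▸ hZ')⟩, hZ'⟩)
  have hηO : ∀ Z, η Z ∈ O Z := fun Z hmem => by
    obtain ⟨⟨Z', hne⟩, hZ'⟩ := Set.mem_iUnion.1 hmem
    have hsub : Z.1 ⊆ Z'.1 := by
      rw [← (hη Z).def]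
      exact (hClosed Z').closure_subset_iff.2 (Set.singleton_subset_iff.2 hZ')
    exact hne (Subtype.ext (le_antisymm (Z.2.2 Z'.2.1 hsub) hsub))
  choose V hV hηV hVO using fun Z : C =>
    let ⟨_, ⟨V, hV, rfl⟩, hx, hle⟩ := X.isBasis_affineOpens.exists_subset_of_mem_open (hηO Z) (O Z).isOpen
    (⟨V, hV, hx, hle⟩ : ∃ V : X.Opens, IsAffineOpen V ∧ η Z ∈ V ∧ (V : Set X) ⊆ (O Z : Set X))
  let B : Fin (k + 1) → X.Opens := fun i => A i ⊔ ⨆ Z ∈ {Z : C | η Z ∉ A i}, V Z
  have hB : ∀ i, IsAffineOpen (B i) := fun i => by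
    refine IsAffineOpen.sup_of_disjoint (hA i) (IsAffineOpen.biSup_of_disjoint (Set.toFinite _) (fun Z _ => hV Z) ?_) ?_
    · intro Z _ Z' _ hne
      rw [Function.onFun, ← Opens.coe_disjoint]
      refine Set.disjoint_left.2 fun x hx hx' => ?_
      exact hVO Z hx (Set.mem_iUnion.2 ⟨⟨Z', fun e => hne e.symm⟩, hOle Z' x (hVO Z' hx')⟩)
    · rw [← Opens.coe_disjoint]
      refine Set.disjoint_left.2 fun x hx hx' => ?_
      simp only [Opens.coe_iSup, Set.mem_iUnion] at hx'
      obtain ⟨Z, hZ, hxV⟩ := hx'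
      exact hZ ((hη Z).mem_open_set_iff (A i).isOpen |>.2 ⟨x, hOle Z x (hVO Z hxV), hx⟩)
  have hηB : ∀ i Z, η Z ∈ B i := fun i Z => by
    by_cases hc : η Z ∈ A i
    · exact (le_sup_left : A i ≤ B i) hc
    · exact (le_sup_right : _ ≤ B i) (Opens.mem_iSup.2 ⟨Z, Opens.mem_iSup.2 ⟨hc, hηV Z⟩⟩)
  refine ⟨k, B, Finset.univ.inf B, hB, fun x => (hcov x).imp fun i hi => (le_sup_left : A i ≤ B i) hi,
    fun i => Finset.inf_le (Finset.mem_univ i), quasiCompact_ι _ ?_, ?_⟩
  · have : ∀ s : Finset (Fin (k + 1)), IsCompact ((s.inf B : X.Opens) : Set X) := by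
      intro s
      induction s using Finset.induction_on with
      | empty => simpa using isCompact_univ (X := X)
      | insert a s _ ih =>
        rw [Finset.inf_insert, Opens.coe_inf]
        exact QuasiSeparatedSpace.inter_isCompact (α := X) _ _ (B a).isOpen (hB a).isCompact (Opens.isOpen _) ih
    exact this _
  · intro x
    obtain ⟨Z, hZ⟩ := hcovC x
    have hmem : η Z ∈ ((Finset.univ.inf B : X.Opens) : Set X) := by
      refine Finset.inf_induction (p := fun V : X.Opens => η Z ∈ (V : Set X)) trivial (fun a ha b hb => ?_) fun i _ => hηB i Z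
      exact ⟨ha, hb⟩
    exact closure_mono (Set.singleton_subset_iff.2 hmem) ((hη Z).def ▸ hZ)

/-- An affine cover whose members all contain a nonempty affine open. -/
theorem exists_cover_nonempty [CompactSpace X] [Nonempty X] :
    ∃ (k : ℕ) (U : Fin (k + 1) → X.Opens) (W : X.Opens), (∀ i, IsAffineOpen (U i)) ∧ (∀ x : X, ∃ i, x ∈ U i) ∧
      (∀ i, W ≤ U i) ∧ IsAffineOpen W ∧ (W : Set X).Nonempty := by
  classical
  obtain ⟨k, A, hA, hcov⟩ := exists_affine_cover X
  obtain ⟨W₀, hW₀, hW₀A⟩ : ∃ W₀ : X.Opens, (W₀ : Set X).Nonempty ∧ ∀ i, W₀ ≤ A i ∨ Disjoint W₀ (A i) := by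
    have : ∀ s : Finset (Fin (k + 1)), ∃ W₀ : X.Opens, (W₀ : Set X).Nonempty ∧
        ∀ i ∈ s, W₀ ≤ A i ∨ Disjoint W₀ (A i) := by
      intro s
      induction s using Finset.induction_on with
      | empty => exact ⟨⊤, Set.univ_nonempty, fun i hi => absurd hi (Finset.notMem_empty i)⟩
      | insert a s _ ih =>
        obtain ⟨W₀, hne, hW⟩ := ih
        by_cases hd : Disjoint W₀ (A a)
        · exact ⟨W₀, hne, fun i hi => (Finset.mem_insert.1 hi).elim (fun e => Or.inr (e ▸ hd)) (hW i)⟩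
        · refine ⟨W₀ ⊓ A a, ?_, fun i hi => (Finset.mem_insert.1 hi).elim (fun e => Or.inl (e ▸ inf_le_right)) fun hi => ?_⟩
          · rw [← Opens.coe_disjoint, Set.not_disjoint_iff] at hd
            exact hd
          · exact (hW i hi).imp (inf_le_left.trans ·) (·.mono_left inf_le_left)
    obtain ⟨W₀, hne, hW⟩ := this Finset.univ
    exact ⟨W₀, hne, fun i => hW i (Finset.mem_univ i)⟩
  obtain ⟨x, hx⟩ := hW₀
  obtain ⟨_, ⟨W, hW, rfl⟩, hxW, hle⟩ := X.isBasis_affineOpens.exists_subset_of_mem_open hx W₀.isOpen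
  refine ⟨k, fun i => if W₀ ≤ A i then A i else A i ⊔ W, W, fun i => ?_, fun y => ?_, fun i => ?_, hW, ⟨x, hxW⟩⟩
  · show IsAffineOpen (if W₀ ≤ A i then A i else A i ⊔ W)
    split_ifs with hc
    · exact hA i
    · exact IsAffineOpen.sup_of_disjoint (hA i) hW (((hW₀A i).resolve_left hc).mono_left (show W ≤ W₀ from hle)).symm
  · obtain ⟨i, hi⟩ := hcov y
    refine ⟨i, ?_⟩
    show y ∈ if W₀ ≤ A i then A i else A i ⊔ W
    split_ifs
    · exact hi
    · exact (le_sup_left : A i ≤ A i ⊔ W) hi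
  · show W ≤ if W₀ ≤ A i then A i else A i ⊔ W
    split_ifs with hc
    · exact le_trans hle hc
    · exact le_sup_right

/-- Chow's lemma, with a dense open over which the modification is an isomorphism. -/
theorem chow_dense (r : X ⟶ S) [IsSeparated r] [LocallyOfFiniteType r] [QuasiCompact r] [CompactSpace S]
    [QuasiSeparatedSpace S] (h : (irreducibleComponents X).Finite) :
    ∃ (n : ℕ) (X' : Scheme.{u}) (π : X' ⟶ X) (j : X' ⟶ ProjSpaceOver n S),
      RelProj.IsHProjective π ∧ IsImmersion j ∧ QuasiCompact j ∧ j ≫ CohB1.ProjSpaceOver.toBase n S = π ≫ r ∧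
      IsProper π ∧ Surjective π ∧
      (∃ U : X.Opens, Dense (U : Set X) ∧ Dense ((π ⁻¹ᵁ U : X'.Opens) : Set X') ∧ IsIso (π ∣_ U)) ∧
      (IsReduced X → IsReduced X') ∧ (IrreducibleSpace X → IrreducibleSpace X') := by
  haveI := quasiSeparatedSpace_of_isSeparated r
  haveI : CompactSpace X := QuasiCompact.compactSpace_of_compactSpace r
  obtain ⟨k, U, W, hU, hcov, hWU, hWqc, hWd⟩ := exists_cover_dense h
  obtain ⟨n, X', π, j, γ, hπ, hj, hjqc, hjr, hiso, hsd, hdom, hγπ⟩ := chow_core r U hU hcov W hWU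
  haveI := isProper_of_isHProjective hπ
  have hγW : Set.range γ ⊆ ((π ⁻¹ᵁ W : X'.Opens) : Set X') := by
    rintro _ ⟨w, rfl⟩
    show (γ ≫ π) w ∈ W
    rw [hγπ]
    exact w.2
  have hdense : Dense ((π ⁻¹ᵁ W : X'.Opens) : Set X') := hdom.denseRange.mono hγW
  have hsurj : Surjective π := by
    refine ⟨Set.range_eq_univ.1 (Set.eq_univ_of_univ_subset ?_)⟩
    rw [← hWd.closure_eq]
    refine π.isClosedMap.isClosed_range.closure_subset_iff.2 fun x hx => ?_
    exact ⟨γ ⟨x, hx⟩, by rw [← Scheme.Hom.comp_apply, hγπ]; rfl⟩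
  refine ⟨n, X', π, j, hπ, hj, hjqc, hjr, inferInstance, hsurj, ⟨W, hWd, hdense, hiso⟩, fun hred => ?_, fun hirr => ?_⟩
  · exact hsd.isReduced
  · have hne : (W : Set X).Nonempty := hWd.nonempty
    haveI : Nonempty (W : Scheme.{u}) := ⟨⟨hne.some, hne.some_mem⟩⟩
    haveI : PreirreducibleSpace (W : Scheme.{u}) :=
      W.ι.isOpenEmbedding.preirreducibleSpace
    haveI : IrreducibleSpace (W : Scheme.{u}) := ⟨inferInstance⟩
    refine (irreducibleSpace_def X').2 ?_
    rw [Set.top_eq_univ, ← hdom.denseRange.closure_range]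
    refine isIrreducible_iff_closure.2 ?_
    rw [← Set.image_univ]
    exact (IrreducibleSpace.isIrreducible_univ _).image _ γ.continuous.continuousOn

/-- Chow's lemma over a quasi-compact quasi-separated base: an isomorphism over some nonempty open. -/
theorem chow_nonempty (r : X ⟶ S) [IsSeparated r] [LocallyOfFiniteType r] [QuasiCompact r] [CompactSpace S]
    [QuasiSeparatedSpace S] [Nonempty X] :
    ∃ (n : ℕ) (X' : Scheme.{u}) (π : X' ⟶ X) (j : X' ⟶ ProjSpaceOver n S),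
      RelProj.IsHProjective π ∧ IsImmersion j ∧ QuasiCompact j ∧ j ≫ CohB1.ProjSpaceOver.toBase n S = π ≫ r ∧
      ∃ U : X.Opens, (U : Set X).Nonempty ∧ IsIso (π ∣_ U) := by
  haveI := quasiSeparatedSpace_of_isSeparated r
  haveI : CompactSpace X := QuasiCompact.compactSpace_of_compactSpace r
  obtain ⟨k, U, W, hU, hcov, hWU, hW, hne⟩ := exists_cover_nonempty (X := X)
  haveI := quasiCompact_ι W hW.isCompact
  obtain ⟨n, X', π, j, γ, hπ, hj, hjqc, hjr, hiso, -, -, -⟩ := chow_core r U hU hcov W hWU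
  exact ⟨n, X', π, j, hπ, hj, hjqc, hjr, W, hne, hiso⟩

end Groth.Agent.ChowX
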