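import Groth.Agent.SegreX.Coord
import Groth.Agent.VAmple.Embed
import Mathlib.AlgebraicGeometry.Morphisms.Immersion
import Mathlib.AlgebraicGeometry.Morphisms.FiniteType

/-!
# An affine scheme locally of finite type over any base is immersed in a projective space over it
-/

set_option linter.style.haveILetI false
set_option linter.unusedSectionVars false
set_option backward.isDefEq.respectTransparency false
set_option backward.isDefEq.respectTransparency.types false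

universe u

open CategoryTheory CategoryTheory.Limits AlgebraicGeometry TopologicalSpace Opposite HomogeneousLocalization MvPolynomial

namespace Groth.Agent.ChowX

lemma appLE_top_le {U V : Scheme.{u}} (q : U ⟶ V) (O : U.Opens) (c : Γ(V, ⊤)) :
    q.appLE ⊤ O le_top c = U.presheaf.map (homOfLE (le_top : O ≤ ⊤)).op (q.appTop c) := rfl

theorem exists_immersion_affine {U S : Scheme.{u}} [IsAffine U] (r : U ⟶ S) [LocallyOfFiniteType r] :
    ∃ (n : ℕ) (p : U ⟶ CohB1.ProjSpaceOver n S), IsImmersion p ∧ p ≫ CohB1.ProjSpaceOver.toBase n S = r := by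
  classical
  have hch : ∀ x : U, ∃ (h : Γ(U, ⊤)) (V : S.Opens), IsAffineOpen V ∧ U.basicOpen h ≤ r ⁻¹ᵁ V ∧ x ∈ U.basicOpen h := by
    intro x
    obtain ⟨_, ⟨V, hV, rfl⟩, hxV, -⟩ :=
      S.isBasis_affineOpens.exists_subset_of_mem_open (Set.mem_univ (r x)) isOpen_univ
    obtain ⟨h, hle, hx⟩ := (isAffineOpen_top U).exists_basicOpen_le (V := r ⁻¹ᵁ V) ⟨x, hxV⟩ trivial
    exact ⟨h, V, hV, hle, hx⟩
  choose h V hV hle hx using hch
  obtain ⟨t, ht⟩ := isCompact_univ.elim_finite_subcover (fun x => (U.basicOpen (h x) : Set U))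
    (fun x => (U.basicOpen (h x)).isOpen) fun x _ => Set.mem_iUnion.2 ⟨x, hx x⟩
  have hgens : ∀ x : U, ∃ (k : ℕ) (g : Fin k → Γ(U, ⊤)), ∀ b : Γ(U, U.basicOpen (h x)),
      b ∈ Subring.closure (Set.range (r.appLE (V x) (U.basicOpen (h x)) (hle x)) ∪
        (Set.range (fun l => U.presheaf.map (homOfLE (le_top : U.basicOpen (h x) ≤ ⊤)).op (g l)) ∪
          {b' | b' * U.presheaf.map (homOfLE (le_top : U.basicOpen (h x) ≤ ⊤)).op (h x) = 1})) := by
    intro x
    let ρ := U.presheaf.map (homOfLE (le_top : U.basicOpen (h x) ≤ ⊤)).op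
    have hf := r.finiteType_appLE (hV x) ((isAffineOpen_top U).basicOpen (h x)) (hle x)
    letI := (r.appLE (V x) (U.basicOpen (h x)) (hle x)).hom.toAlgebra
    obtain ⟨k, φ, hφ⟩ := Algebra.FiniteType.iff_quotient_mvPolynomial''.1
      (show Algebra.FiniteType Γ(S, V x) Γ(U, U.basicOpen (h x)) from hf)
    letI : Algebra Γ(U, ⊤) Γ(U, U.basicOpen (h x)) := ρ.hom.toAlgebra
    haveI : IsLocalization.Away (h x) Γ(U, U.basicOpen (h x)) := (isAffineOpen_top U).isLocalization_basicOpen (h x)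
    have hw : ∀ l : Fin k, ∃ (N : ℕ) (w : Γ(U, ⊤)), φ (X l) * ρ (h x) ^ N = ρ w := fun l => by
      obtain ⟨N, w, hw⟩ := IsLocalization.Away.surj (h x) (φ (X l))
      exact ⟨N, w, hw⟩
    choose N w hw using hw
    refine ⟨k, w, fun b => ?_⟩
    obtain ⟨u, hu⟩ : IsUnit (ρ (h x)) := IsLocalization.Away.algebraMap_isUnit (h x)
    have hinv : (↑u⁻¹ : Γ(U, U.basicOpen (h x))) ∈ Subring.closure (Set.range (r.appLE (V x) (U.basicOpen (h x)) (hle x)) ∪
        (Set.range (fun l => ρ (w l)) ∪ {b' | b' * ρ (h x) = 1})) :=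
      Subring.subset_closure (Or.inr (Or.inr (by show _ * ρ (h x) = 1; rw [← hu, Units.inv_mul])))
    obtain ⟨P, rfl⟩ := hφ b
    induction P using MvPolynomial.induction_on with
    | C a =>
      refine Subring.subset_closure (Or.inl ⟨a, ?_⟩)
      exact (φ.commutes a).symm
    | add P Q hP hQ => rw [map_add]; exact add_mem hP hQ
    | mul_X P l hP =>
      rw [map_mul]
      refine mul_mem hP ?_
      have e : φ (X l) = ρ (w l) * (↑u⁻¹ : Γ(U, U.basicOpen (h x))) ^ N l := by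
        rw [← hw l, ← hu, mul_assoc, ← mul_pow, Units.mul_inv, one_pow, mul_one]
      rw [e]
      exact mul_mem (Subring.subset_closure (Or.inr (Or.inl ⟨l, rfl⟩))) (pow_mem hinv _)
  choose k g hg using hgens
  let κ := t ⊕ (Σ x : t, Fin (k x.1))
  let e : Fin (Fintype.card κ) ≃ κ := (Fintype.equivFin κ).symm
  let n := Fintype.card κ
  let s : Fin (n + 1) → Γ(U, ⊤) := Fin.cons 1 fun l => (e l).elim (fun x => h x.1) fun xl => g xl.1.1 xl.2
  let ev := eval₂Hom (SegreX.z0 Γ(U, ⊤)) s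
  have hev : IsUnit (ev (X 0)) := by simp [ev, s]
  let 𝒜 := CohB1.polyGrading n (ULift.{u} ℤ)
  let C := CommRingCat.of (Away 𝒜 (X 0 : MvPolynomial (Fin (n + 1)) (ULift.{u} ℤ)))
  let q : U ⟶ Spec C := U.toSpecΓ ≫ Spec.map (CommRingCat.ofHom (ProjPt.coordHom 𝒜 ev hev))
  let c0 : Spec C ⟶ CohB1.ProjSpace n (ULift.{u} ℤ) := Proj.awayι 𝒜 (X 0) (ProjPt.X_mem 0) one_pos
  let b0 : Spec C ⟶ Spec (CommRingCat.of (ULift.{u} ℤ)) := specULiftZIsTerminal.from _
  let T := pullback b0 (specULiftZIsTerminal.from S)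
  let fT : T ⟶ Spec C := pullback.fst _ _
  let gT : T ⟶ S := pullback.snd _ _
  let Φ : T ⟶ CohB1.ProjSpaceOver n S :=
    pullback.map _ _ _ _ c0 (𝟙 S) (𝟙 _) (specULiftZIsTerminal.hom_ext _ _) (specULiftZIsTerminal.hom_ext _ _)
  haveI : IsOpenImmersion c0 := inferInstanceAs (IsOpenImmersion (Proj.awayι 𝒜 (X 0) (ProjPt.X_mem 0) one_pos))
  haveI : IsOpenImmersion Φ := Scheme.pullback_map_isOpenImmersion ..
  haveI : IsAffineHom b0 := isAffineHom_of_isAffine _
  haveI : IsAffineHom gT := MorphismProperty.pullback_snd _ _ inferInstance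
  let i : U ⟶ T := pullback.lift q r (specULiftZIsTerminal.hom_ext _ _)
  have hi1 : i ≫ fT = q := pullback.lift_fst _ _ _
  have hi2 : i ≫ gT = r := pullback.lift_snd _ _ _
  have hΦ : Φ ≫ CohB1.ProjSpaceOver.toBase n S = gT := (pullback.lift_snd _ _ _).trans (Category.comp_id _)
  refine ⟨n, i ≫ Φ, ?_, by rw [Category.assoc, hΦ, hi2]⟩
  suffices IsImmersion i from inferInstance
  -- the coordinate functions
  let cs : Fin (n + 1) → Γ(Spec C, ⊤) := fun l => (Scheme.ΓSpecIso C).inv (ProjPt.crd 0 l)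
  have hcs : ∀ l, q.appTop (cs l) = s l := fun l => by
    show ((Scheme.ΓSpecIso C).inv ≫ q.appTop) (ProjPt.crd 0 l) = s l
    have : (Scheme.ΓSpecIso C).inv ≫ q.appTop = CommRingCat.ofHom (ProjPt.coordHom 𝒜 ev hev) := by
      simp only [q, Scheme.Hom.comp_appTop, Scheme.toSpecΓ_appTop]
      rw [← Category.assoc, ← Scheme.ΓSpecIso_inv_naturality, Category.assoc, Iso.inv_hom_id, Category.comp_id]
    rw [this]
    show ProjPt.coordHom 𝒜 ev hev (ProjPt.crd 0 l) = s l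
    rw [ProjPt.coordHom_crd ev 0 hev (by simp [ev, s])]
    exact eval₂Hom_X' _ _ _
  let O : t → T.Opens := fun x =>
    T.basicOpen (fT.appLE ⊤ (gT ⁻¹ᵁ V x.1) le_top (cs (e.symm (Sum.inl x)).succ))
  have hOaff : ∀ x, IsAffineOpen (O x) := fun x => ((hV x.1).preimage gT).basicOpen _
  have hpre : ∀ x : t, i ⁻¹ᵁ O x = U.basicOpen (h x.1) := fun x => by
    simp only [O]
    rw [Scheme.preimage_basicOpen]
    have h2 : i.app (gT ⁻¹ᵁ V x.1) (fT.appLE ⊤ (gT ⁻¹ᵁ V x.1) le_top (cs (e.symm (Sum.inl x)).succ)) =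
        U.presheaf.map (homOfLE (le_top : i ⁻¹ᵁ gT ⁻¹ᵁ V x.1 ≤ ⊤)).op (h x.1) := by
      rw [Scheme.Hom.app_eq_appLE, ← CommRingCat.comp_apply, Scheme.Hom.appLE_comp_appLE]
      simp only [hi1]
      rw [appLE_top_le, hcs]
      simp [s]
    rw [h2, Scheme.basicOpen_res, inf_eq_right, ← Scheme.Hom.comp_preimage, hi2]
    exact hle x.1
  let W : T.Opens := ⨆ x, O x
  have hrange : Set.range i ⊆ Set.range W.ι := by
    rintro _ ⟨y, rfl⟩
    obtain ⟨x, hxt, hy⟩ := Set.mem_iUnion₂.1 (ht (Set.mem_univ y))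
    rw [Scheme.Opens.range_ι]
    exact Opens.mem_iSup.2 ⟨⟨x, hxt⟩, (hpre ⟨x, hxt⟩).ge hy⟩
  let j := IsOpenImmersion.lift W.ι i hrange
  have hj : j ≫ W.ι = i := IsOpenImmersion.lift_fac _ _ _
  suffices IsClosedImmersion j by rw [← hj]; infer_instance
  refine IsZariskiLocalAtTarget.of_iSup_eq_top (P := @IsClosedImmersion) (fun x : t => W.ι ⁻¹ᵁ O x) ?_ fun x => ?_
  · refine eq_top_iff.2 fun z _ => ?_
    obtain ⟨x, hx⟩ := Opens.mem_iSup.1 z.2
    exact Opens.mem_iSup.2 ⟨x, hx⟩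
  have hO' : IsAffineOpen (W.ι ⁻¹ᵁ O x) :=
    (hOaff x).preimage_of_isOpenImmersion W.ι (by rw [Scheme.Opens.opensRange_ι]; exact le_iSup O x)
  have hjV : j ⁻¹ᵁ W.ι ⁻¹ᵁ O x = U.basicOpen (h x.1) := by rw [← Scheme.Hom.comp_preimage, hj, hpre]
  refine VAmple.isClosedImmersion_morphismRestrict j hO' (hjV ▸ (isAffineOpen_top U).basicOpen _) ?_
  have hiO : U.basicOpen (h x.1) ≤ i ⁻¹ᵁ O x := (hpre x).ge
  refine VAmple.surjective_app_lift hj hjV hiO ?_
  intro b
  suffices hb : b ∈ (i.appLE (O x) (U.basicOpen (h x.1)) hiO).hom.range from hb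
  refine Subring.closure_le.2 ?_ (hg x.1 b)
  have hcoord : ∀ l, U.presheaf.map (homOfLE (le_top : U.basicOpen (h x.1) ≤ ⊤)).op (s l) ∈
      (i.appLE (O x) (U.basicOpen (h x.1)) hiO).hom.range := fun l => by
    refine ⟨fT.appLE ⊤ (O x) le_top (cs l), ?_⟩
    rw [← CommRingCat.comp_apply, Scheme.Hom.appLE_comp_appLE]
    simp only [hi1]
    rw [appLE_top_le, hcs]
  rintro b' (⟨a, rfl⟩ | ⟨l, rfl⟩ | hb')
  · have hOV : O x ≤ gT ⁻¹ᵁ V x.1 := T.basicOpen_le _
    refine ⟨gT.appLE (V x.1) (O x) hOV a, ?_⟩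
    rw [← CommRingCat.comp_apply, Scheme.Hom.appLE_comp_appLE]
    simp only [hi2]
  · have := hcoord (e.symm (Sum.inr ⟨x, l⟩)).succ
    simpa [s] using this
  · let c := fT.appLE ⊤ (gT ⁻¹ᵁ V x.1) le_top (cs (e.symm (Sum.inl x)).succ)
    have hu : IsUnit (T.presheaf.map (homOfLE (T.basicOpen_le c)).op c) :=
      RingedSpace.isUnit_res_basicOpen T.toRingedSpace c
    obtain ⟨u, hu⟩ := hu
    refine ⟨(↑u⁻¹ : Γ(T, O x)), ?_⟩
    have himg : i.appLE (O x) (U.basicOpen (h x.1)) hiO (u : Γ(T, O x)) =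
        U.presheaf.map (homOfLE (le_top : U.basicOpen (h x.1) ≤ ⊤)).op (h x.1) := by
      rw [hu, ← CommRingCat.comp_apply, Scheme.Hom.map_appLE]
      show (fT.appLE ⊤ (gT ⁻¹ᵁ V x.1) le_top ≫ i.appLE _ (U.basicOpen (h x.1)) _) _ = _
      rw [Scheme.Hom.appLE_comp_appLE]
      simp only [hi1]
      rw [appLE_top_le, hcs]
      simp [s]
    have h1 : i.appLE (O x) (U.basicOpen (h x.1)) hiO (↑u⁻¹ : Γ(T, O x)) *
        i.appLE (O x) (U.basicOpen (h x.1)) hiO (u : Γ(T, O x)) = 1 := by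
      rw [← map_mul, Units.inv_mul, map_one]
    rw [himg] at h1
    calc i.appLE (O x) (U.basicOpen (h x.1)) hiO (↑u⁻¹ : Γ(T, O x))
        = i.appLE (O x) (U.basicOpen (h x.1)) hiO (↑u⁻¹ : Γ(T, O x)) *
            (b' * U.presheaf.map (homOfLE (le_top : U.basicOpen (h x.1) ≤ ⊤)).op (h x.1)) := by
          rw [show _ * _ = (1 : Γ(U, U.basicOpen (h x.1))) from hb', mul_one]
      _ = b' := by rw [mul_left_comm, h1, mul_one]

end Groth.Agent.ChowX
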