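import Groth.Agent.S1616
import Groth.Agent.PnCoh.Chow.Proper
import Groth.Prelude.Def_RelProj

/-!
# Finite products of projective spaces
-/

set_option linter.style.haveILetI false
set_option backward.isDefEq.respectTransparency false
set_option backward.isDefEq.respectTransparency.types false

universe u

open CategoryTheory CategoryTheory.Limits AlgebraicGeometry
open CohB1 (ProjSpaceOver)

namespace Groth.Agent.ChowX

/-- A finite product of projective spaces over `S` is a closed subscheme of one projective space. -/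
theorem exists_product (S : Scheme.{u}) : ∀ (k : ℕ) (n : Fin (k + 1) → ℕ),
    ∃ (P : Scheme.{u}) (b : P ⟶ S), RelProj.IsHProjective b ∧
      ∃ q : ∀ i, P ⟶ ProjSpaceOver (n i) S, (∀ i, q i ≫ CohB1.ProjSpaceOver.toBase (n i) S = b) ∧
        ∀ {T : Scheme.{u}} (t : T ⟶ S) (f : ∀ i, T ⟶ ProjSpaceOver (n i) S),
          (∀ i, f i ≫ CohB1.ProjSpaceOver.toBase (n i) S = t) → ∃ g : T ⟶ P, g ≫ b = t ∧ ∀ i, g ≫ q i = f i
  | 0, n => by
    refine ⟨ProjSpaceOver (n 0) S, CohB1.ProjSpaceOver.toBase (n 0) S,
      ⟨n 0, 𝟙 _, inferInstance, Category.id_comp _⟩, fun i => eqToHom (by rw [Fin.fin_one_eq_zero i]), ?_, ?_⟩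
    · intro i
      obtain rfl : i = 0 := Fin.fin_one_eq_zero i
      simp
    · intro T t f hf
      refine ⟨f 0, hf 0, fun i => ?_⟩
      obtain rfl : i = 0 := Fin.fin_one_eq_zero i
      simp
  | k + 1, n => by
    obtain ⟨P, b, ⟨N, e, he, heb⟩, q, hq, hP⟩ := exists_product S k (fun i => n i.succ)
    obtain ⟨φ, hφ, hφb⟩ := S1616.result S (n 0) N
    let bn := CohB1.ProjSpaceOver.toBase (n 0) S
    let bN := CohB1.ProjSpaceOver.toBase N S
    let m : pullback bn b ⟶ pullback bn bN :=
      pullback.map bn b bn bN (𝟙 _) e (𝟙 _) (by simp) (by rw [Category.comp_id]; exact heb.symm)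
    have hm1 : m ≫ pullback.fst bn bN = pullback.fst bn b :=
      (pullback.lift_fst _ _ _).trans (Category.comp_id _)
    have hm2 : m ≫ pullback.snd bn bN = pullback.snd bn b ≫ e := pullback.lift_snd _ _ _
    haveI : IsClosedImmersion m := by
      refine MorphismProperty.of_isPullback (IsPullback.of_bot ?_ hm2.symm (IsPullback.of_hasPullback bn bN).flip) he
      rw [hm1, heb]
      exact (IsPullback.of_hasPullback bn b).flip
    refine ⟨pullback bn b, pullback.fst bn b ≫ bn, ⟨n 0 * N + n 0 + N, m ≫ φ, inferInstance, ?_⟩,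
      Fin.cases (pullback.fst bn b) (fun i => pullback.snd bn b ≫ q i), ?_, ?_⟩
    · rw [Category.assoc, hφb, ← Category.assoc,
        show m ≫ pullback.fst bn bN = pullback.fst bn b from (pullback.lift_fst _ _ _).trans (Category.comp_id _)]
    · intro i
      induction i using Fin.cases with
      | zero => rfl
      | succ i =>
        simp only [Fin.cases_succ, Category.assoc]
        rw [hq i, ← pullback.condition]
    · intro T t f hf
      obtain ⟨g, hgb, hgq⟩ := hP t (fun i => f i.succ) fun i => hf i.succ
      refine ⟨pullback.lift (f 0) g ((hf 0).trans hgb.symm), ?_, fun i => ?_⟩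
      · rw [pullback.lift_fst_assoc]; exact hf 0
      · induction i using Fin.cases with
        | zero => exact pullback.lift_fst _ _ _
        | succ i =>
          simp only [Fin.cases_succ]
          rw [pullback.lift_snd_assoc]
          exact hgq i

/-- Base change of an H-projective morphism. -/
theorem isHProjective_baseChange {P S X : Scheme.{u}} (r : X ⟶ S) (b : P ⟶ S) (hb : RelProj.IsHProjective b) :
    RelProj.IsHProjective (pullback.fst r b) := by
  obtain ⟨N, e, he, heb⟩ := hb
  let pS : ProjSpaceOver N S ⟶ _ := pullback.fst (CohB1.ProjSpace.toSpec N (ULift.{u} ℤ)) (specULiftZIsTerminal.from S)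
  let i : pullback r b ⟶ ProjSpaceOver N X :=
    pullback.lift (pullback.snd r b ≫ e ≫ pS) (pullback.fst r b) (specULiftZIsTerminal.hom_ext _ _)
  refine ⟨N, i, ?_, pullback.lift_snd _ _ _⟩
  let F : ProjSpaceOver N X ⟶ ProjSpaceOver N S :=
    pullback.map _ _ _ _ (𝟙 _) r (𝟙 _) (by simp) (specULiftZIsTerminal.hom_ext _ _)
  have hF : IsPullback F (CohB1.ProjSpaceOver.toBase N X) (CohB1.ProjSpaceOver.toBase N S) r := by
    refine IsPullback.of_right ?_ (pullback.lift_snd _ _ _) (IsPullback.of_hasPullback _ _)
    rw [show F ≫ pullback.fst _ _ = pullback.fst _ _ from (pullback.lift_fst _ _ _).trans (Category.comp_id _),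
      specULiftZIsTerminal.hom_ext (r ≫ _) (specULiftZIsTerminal.from X)]
    exact IsPullback.of_hasPullback _ _
  have hsq : IsPullback (pullback.snd r b) i e F := by
    refine IsPullback.of_bot ?_ ?_ hF
    · rw [show i ≫ CohB1.ProjSpaceOver.toBase N X = pullback.fst r b from pullback.lift_snd _ _ _, heb]
      exact (IsPullback.of_hasPullback r b).flip
    · refine pullback.hom_ext ?_ ?_
      · simp only [Category.assoc, F, pullback.lift_fst, Category.comp_id, i]
        rfl
      · show (pullback.snd r b ≫ e) ≫ CohB1.ProjSpaceOver.toBase N S = (i ≫ F) ≫ CohB1.ProjSpaceOver.toBase N S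
        rw [Category.assoc, Category.assoc, heb, hF.w, ← pullback.condition, ← Category.assoc]
        congr 1
        exact (pullback.lift_snd _ _ _).symm
  exact MorphismProperty.of_isPullback hsq he

theorem isProper_of_isHProjective {X S : Scheme.{u}} {f : X ⟶ S} (hf : RelProj.IsHProjective f) : IsProper f := by
  obtain ⟨N, i, hi, rfl⟩ := hf
  haveI : IsProper (CohB1.ProjSpace.toSpec N (ULift.{u} ℤ)) := PnCoh.Chow.isProper_toSpec N _
  haveI : IsProper (CohB1.ProjSpaceOver.toBase N S) := MorphismProperty.pullback_snd _ _ inferInstance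
  infer_instance

end Groth.Agent.ChowX
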