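import Mathlib.AlgebraicGeometry.Morphisms.Immersion
import Mathlib.AlgebraicGeometry.Morphisms.Separated
import Mathlib.AlgebraicGeometry.IdealSheaf.Subscheme

/-!
# Morphisms injective on functions
-/

set_option linter.style.haveILetI false
set_option backward.isDefEq.respectTransparency false
set_option backward.isDefEq.respectTransparency.types false

universe u

open CategoryTheory CategoryTheory.Limits AlgebraicGeometry TopologicalSpace Opposite

namespace Groth.Agent.ChowX

/-- Functions on every open of the target are detected on the source. -/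
def Sdom {W Z : Scheme.{u}} (a : W ⟶ Z) : Prop := ∀ V : Z.Opens, Function.Injective (a.app V)

theorem sdom_toImage {W Y : Scheme.{u}} (h : W ⟶ Y) [QuasiCompact h] : Sdom h.toImage := fun V =>
  TopCat.Presheaf.app_injective_of_stalkFunctor_map_injective (F := h.image.sheaf) h.toImage.c V
    fun x _ => h.stalkFunctor_toImage_injective x

theorem Sdom.comp_iso {W W' Z : Scheme.{u}} {a : W ⟶ Z} (ha : Sdom a) (e : W' ⟶ W) [IsIso e] : Sdom (e ≫ a) := by
  intro V
  rw [Scheme.Hom.comp_app]
  exact (ConcreteCategory.bijective_of_isIso (e.app (a ⁻¹ᵁ V))).1.comp (ha V)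

theorem Sdom.restrict {W Z : Scheme.{u}} {a : W ⟶ Z} (ha : Sdom a) (O : Z.Opens) : Sdom (a ∣_ O) := by
  intro V
  rw [morphismRestrict_app]
  simp only [CommRingCat.hom_comp, RingHom.coe_comp]
  exact (ConcreteCategory.bijective_of_isIso _).1.comp (ha _)

theorem Sdom.ker_eq_bot {W Z : Scheme.{u}} {a : W ⟶ Z} (ha : Sdom a) : a.ker = ⊥ := by
  refine eq_bot_iff.2 ?_
  rw [Scheme.IdealSheafData.le_def]
  intro U x hx
  have h1 : x ∈ RingHom.ker (a.app U.1).hom := Scheme.IdealSheafData.ideal_ofIdeals_le _ U hx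
  rw [Scheme.IdealSheafData.ideal_bot]
  exact ha U.1 (h1.trans (map_zero (a.app U.1).hom).symm)

/-- A closed immersion through which such a morphism factors is an isomorphism. -/
theorem Sdom.isIso_of_factor {W E Z : Scheme.{u}} {a : W ⟶ Z} (ha : Sdom a) (l : W ⟶ E) (c : E ⟶ Z)
    [IsClosedImmersion c] (h : l ≫ c = a) : IsIso c := by
  refine IsClosedImmersion.isIso_of_ker_eq c (𝟙 Z) c (Category.comp_id c) ?_
  refine le_antisymm ((Scheme.Hom.le_ker_comp l c).trans ?_) (by simp)
  rw [h, ha.ker_eq_bot]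
  exact bot_le

/-- Morphisms to a separated scheme agreeing along such a morphism are equal. -/
theorem Sdom.ext {W Z Y S : Scheme.{u}} {a : W ⟶ Z} (ha : Sdom a) {f g : Z ⟶ Y} (s : Y ⟶ S) [IsSeparated s]
    (hs : f ≫ s = g ≫ s) (h : a ≫ f = a ≫ g) : f = g := by
  let Z' : Over S := Over.mk (f ≫ s)
  let Y' : Over S := Over.mk s
  let f' : Z' ⟶ Y' := Over.homMk f
  let g' : Z' ⟶ Y' := Over.homMk g
  let W' : Over S := Over.mk (a ≫ f ≫ s)
  let a' : W' ⟶ Z' := Over.homMk a
  have : IsSeparated Y'.hom := ‹_›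
  have hw : a' ≫ f' = a' ≫ g' := by ext1; exact h
  haveI : IsIso (equalizer.ι f' g').left :=
    ha.isIso_of_factor (equalizer.lift a' hw).left _ (by rw [← Over.comp_left, equalizer.lift_ι]; rfl)
  rw [← cancel_epi (equalizer.ι f' g').left]
  exact congr($(equalizer.condition f' g').left)

/-- Factorisation through a closed immersion descends along such a morphism. -/
theorem Sdom.exists_factor {W Z E O : Scheme.{u}} {a : W ⟶ Z} (ha : Sdom a) (c : E ⟶ O) [IsClosedImmersion c]
    (g : Z ⟶ O) (b : W ⟶ E) (h : a ≫ g = b ≫ c) : ∃ l : Z ⟶ E, l ≫ c = g := by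
  haveI : IsIso (pullback.fst g c) := ha.isIso_of_factor (pullback.lift a b h) _ (pullback.lift_fst _ _ _)
  exact ⟨inv (pullback.fst g c) ≫ pullback.snd g c, by
    rw [Category.assoc, ← pullback.condition, IsIso.inv_hom_id_assoc]⟩

theorem Sdom.isReduced {W Z : Scheme.{u}} {a : W ⟶ Z} (ha : Sdom a) [IsReduced W] : IsReduced Z :=
  ⟨fun V => isReduced_of_injective (a.app V).hom (ha V)⟩

end Groth.Agent.ChowX
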