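import Groth.Agent.ChowX.AffImm
import Groth.Agent.ChowX.Sdom
import Groth.Agent.ChowX.Prod

/-!
# The construction in Chow's lemma
-/

set_option linter.style.haveILetI false
set_option linter.unusedSectionVars false
set_option backward.isDefEq.respectTransparency false
set_option backward.isDefEq.respectTransparency.types false
set_option maxHeartbeats 800000

universe u

open CategoryTheory CategoryTheory.Limits AlgebraicGeometry TopologicalSpace
open CohB1 (ProjSpaceOver)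

namespace Groth.Agent.ChowX

theorem isImmersion_of_cover {X P : Scheme.{u}} (f : X ⟶ P) {ι : Type*} (O : ι → P.Opens)
    (hcov : ∀ x, ∃ i, f x ∈ O i) (h : ∀ i, IsClosedImmersion (f ∣_ O i)) : IsImmersion f := by
  let Y : P.Opens := ⨆ i, O i
  have hY : f ⁻¹ᵁ Y = ⊤ := top_le_iff.1 fun x _ => by
    obtain ⟨i, hi⟩ := hcov x
    exact Opens.mem_iSup.2 ⟨i, hi⟩
  let j : X ⟶ Y := IsOpenImmersion.lift Y.ι f (by
    rintro _ ⟨x, rfl⟩
    rw [Scheme.Opens.range_ι]
    exact hY.ge (Set.mem_univ x))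
  have hj : j ≫ Y.ι = f := IsOpenImmersion.lift_fac _ _ _
  suffices IsClosedImmersion j by rw [← hj]; infer_instance
  refine IsZariskiLocalAtTarget.of_iSup_eq_top (P := @IsClosedImmersion) (fun i => Y.ι ⁻¹ᵁ O i) ?_ fun i => ?_
  · refine eq_top_iff.2 fun z _ => ?_
    obtain ⟨i, hi⟩ := Opens.mem_iSup.1 z.2
    exact Opens.mem_iSup.2 ⟨i, hi⟩
  · have h2 : IsClosedImmersion (j ∣_ (Y.ι ⁻¹ᵁ O i) ≫ (Y.ι ∣_ O i)) := by
      have h1 := h i
      rw [← hj, morphismRestrict_comp] at h1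
      exact h1
    exact IsClosedImmersion.of_comp _ (Y.ι ∣_ O i)

variable {X S : Scheme.{u}}

theorem chow_core (r : X ⟶ S) [IsSeparated r] [LocallyOfFiniteType r] [QuasiCompact r] {k : ℕ}
    (U : Fin (k + 1) → X.Opens) (hU : ∀ i, IsAffineOpen (U i)) (hcov : ∀ x : X, ∃ i, x ∈ U i)
    (W : X.Opens) (hWU : ∀ i, W ≤ U i) [QuasiCompact W.ι] :
    ∃ (n : ℕ) (X' : Scheme.{u}) (π : X' ⟶ X) (j : X' ⟶ ProjSpaceOver n S) (γ : (W : Scheme.{u}) ⟶ X'),
      RelProj.IsHProjective π ∧ IsImmersion j ∧ QuasiCompact j ∧ j ≫ CohB1.ProjSpaceOver.toBase n S = π ≫ r ∧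
      IsIso (π ∣_ W) ∧ Sdom γ ∧ IsDominant γ ∧ γ ≫ π = W.ι := by
  classical
  have himm : ∀ i, ∃ (n : ℕ) (p : (U i : Scheme.{u}) ⟶ ProjSpaceOver n S), IsImmersion p ∧
      p ≫ CohB1.ProjSpaceOver.toBase n S = (U i).ι ≫ r := fun i =>
    haveI : IsAffine (U i : Scheme.{u}) := hU i
    exists_immersion_affine ((U i).ι ≫ r)
  choose n p hp hpb using himm
  obtain ⟨P, b, hb, q, hq, hP⟩ := exists_product S k n
  obtain ⟨g, hgb, hgq⟩ := hP (W.ι ≫ r) (fun i => X.homOfLE (hWU i) ≫ p i) fun i => by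
    rw [Category.assoc, hpb, ← Category.assoc, Scheme.homOfLE_ι]
  haveI : IsProper b := isProper_of_isHProjective hb
  let fst : pullback r b ⟶ X := pullback.fst r b
  let snd : pullback r b ⟶ P := pullback.snd r b
  haveI : IsProper fst := MorphismProperty.pullback_fst _ _ inferInstance
  let h : (W : Scheme.{u}) ⟶ pullback r b := pullback.lift W.ι g hgb.symm
  have hh1 : h ≫ fst = W.ι := pullback.lift_fst _ _ _
  have hh2 : h ≫ snd = g := pullback.lift_snd _ _ _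
  haveI : QuasiCompact (h ≫ fst) := by rw [hh1]; infer_instance
  haveI : QuasiCompact h := QuasiCompact.of_comp h fst
  let π : h.image ⟶ X := h.imageι ≫ fst
  let ρ : h.image ⟶ P := h.imageι ≫ snd
  let γ := h.toImage
  have hγπ : γ ≫ π = W.ι := by simp only [γ, π, Scheme.Hom.toImage_imageι_assoc, hh1]
  have hγρ : γ ≫ ρ = g := by simp only [γ, ρ, Scheme.Hom.toImage_imageι_assoc, hh2]
  have hρb : ρ ≫ b = π ≫ r := by
    simp only [π, ρ, Category.assoc]
    rw [show snd ≫ b = fst ≫ r from pullback.condition.symm]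
  have hsd : Sdom γ := sdom_toImage h
  haveI hsepb : ∀ i, IsSeparated (CohB1.ProjSpaceOver.toBase (n i) S) := fun i => by
    haveI : IsProper (CohB1.ProjSpace.toSpec (n i) (ULift.{u} ℤ)) := PnCoh.Chow.isProper_toSpec _ _
    exact MorphismProperty.pullback_snd _ _ inferInstance
  have key : ∀ i, ∀ (Z : h.image.Opens), Z ≤ ρ ⁻¹ᵁ (q i ⁻¹ᵁ (p i).coborderRange) →
      ∃ l : (Z : Scheme.{u}) ⟶ (U i : Scheme.{u}), l ≫ p i = Z.ι ≫ ρ ≫ q i ∧ l ≫ (U i).ι = Z.ι ≫ π := by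
    intro i Z hZ
    let O := (p i).coborderRange
    have hrange : Set.range (Z.ι ≫ ρ ≫ q i) ⊆ Set.range O.ι := by
      rintro _ ⟨z, rfl⟩
      rw [Scheme.Opens.range_ι]
      exact hZ z.2
    let g' := IsOpenImmersion.lift O.ι (Z.ι ≫ ρ ≫ q i) hrange
    have hg' : g' ≫ O.ι = Z.ι ≫ ρ ≫ q i := IsOpenImmersion.lift_fac _ _ _
    let a := γ ∣_ Z
    have ha : a ≫ g' = ((γ ⁻¹ᵁ Z).ι ≫ X.homOfLE (hWU i)) ≫ (p i).liftCoborder := by
      rw [← cancel_mono O.ι, Category.assoc, hg', morphismRestrict_ι_assoc, reassoc_of% hγρ, hgq i]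
      simp only [Category.assoc, O, Scheme.Hom.liftCoborder_ι]
    obtain ⟨l, hl⟩ := (hsd.restrict Z).exists_factor (p i).liftCoborder g' _ ha
    have hlp : l ≫ p i = Z.ι ≫ ρ ≫ q i := by
      rw [← (p i).liftCoborder_ι, reassoc_of% hl]
      exact hg'
    refine ⟨l, hlp, (hsd.restrict Z).ext r ?_ ?_⟩
    · rw [Category.assoc, ← hpb i, reassoc_of% hlp, hq i, hρb]
      simp only [π, Category.assoc]
    · have h1 : a ≫ l = (γ ⁻¹ᵁ Z).ι ≫ X.homOfLE (hWU i) := by
        rw [← cancel_mono (p i).liftCoborder, Category.assoc, hl]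
        exact ha
      rw [← Category.assoc, h1, Category.assoc, Scheme.homOfLE_ι, ← Category.assoc a, morphismRestrict_ι,
        Category.assoc, hγπ]
  have hπU : ∀ i, π ⁻¹ᵁ U i ≤ ρ ⁻¹ᵁ (q i ⁻¹ᵁ (p i).coborderRange) := by
    intro i x hx
    let Z := π ⁻¹ᵁ U i
    have e : (π ∣_ U i) ≫ p i = Z.ι ≫ ρ ≫ q i := by
      refine (hsd.restrict Z).ext (CohB1.ProjSpaceOver.toBase (n i) S) ?_ ?_
      · rw [Category.assoc, hpb, morphismRestrict_ι_assoc]
        simp only [Category.assoc, hq i, hρb]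
        rfl
      · have h1 : (γ ∣_ Z) ≫ (π ∣_ U i) = (γ ⁻¹ᵁ Z).ι ≫ X.homOfLE (hWU i) := by
          rw [← cancel_mono (U i).ι, Category.assoc, morphismRestrict_ι, morphismRestrict_ι_assoc, hγπ,
            Category.assoc, Scheme.homOfLE_ι]
        rw [reassoc_of% h1, morphismRestrict_ι_assoc, reassoc_of% hγρ, hgq i]
    show (ρ ≫ q i) x ∈ (p i).coborderRange
    have := congr($e ⟨x, hx⟩)
    rw [Scheme.Hom.comp_apply, Scheme.Hom.comp_apply Z.ι] at this
    rw [show (ρ ≫ q i) x = p i ((π ∣_ U i) ⟨x, hx⟩) from this.symm]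
    exact subset_coborder ⟨_, rfl⟩
  have hρimm : IsImmersion ρ := by
    refine isImmersion_of_cover ρ (fun i => q i ⁻¹ᵁ (p i).coborderRange) (fun x => ?_) fun i => ?_
    · obtain ⟨i, hi⟩ := hcov (π x)
      exact ⟨i, hπU i hi⟩
    let Y := q i ⁻¹ᵁ (p i).coborderRange
    obtain ⟨l, hlp, hlX⟩ := key i (ρ ⁻¹ᵁ Y) le_rfl
    let c := pullback.snd (p i).liftCoborder (q i ∣_ (p i).coborderRange)
    let l0 := pullback.fst (p i).liftCoborder (q i ∣_ (p i).coborderRange)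
    have hl0 : l ≫ (p i).liftCoborder = (ρ ∣_ Y) ≫ (q i ∣_ (p i).coborderRange) := by
      rw [← cancel_mono (p i).coborderRange.ι, Category.assoc, Scheme.Hom.liftCoborder_ι, Category.assoc,
        morphismRestrict_ι, morphismRestrict_ι_assoc, hlp]
    let g0 : ((ρ ⁻¹ᵁ Y : h.image.Opens) : Scheme.{u}) ⟶ pullback (p i).liftCoborder (q i ∣_ (p i).coborderRange) :=
      pullback.lift l (ρ ∣_ Y) hl0
    have hg0c : g0 ≫ c = ρ ∣_ Y := pullback.lift_snd _ _ _
    suffices IsClosedImmersion g0 by rw [← hg0c]; infer_instance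
    -- the closed immersion into the product
    let σ : ((ρ ⁻¹ᵁ Y : h.image.Opens) : Scheme.{u}) ⟶ ((snd ⁻¹ᵁ Y : (pullback r b).Opens) : Scheme.{u}) :=
      h.imageι ∣_ (snd ⁻¹ᵁ Y)
    haveI : IsClosedImmersion σ :=
      IsZariskiLocalAtTarget.restrict (P := @IsClosedImmersion) inferInstance _
    have hκw : (l0 ≫ (U i).ι) ≫ r = (c ≫ Y.ι) ≫ b := by
      rw [Category.assoc, Category.assoc, ← hpb i, ← hq i, ← morphismRestrict_ι_assoc (q i)]
      rw [← reassoc_of% (pullback.condition (f := (p i).liftCoborder) (g := q i ∣_ (p i).coborderRange)),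
        Scheme.Hom.liftCoborder_ι_assoc]
    let κ₀ : pullback (p i).liftCoborder (q i ∣_ (p i).coborderRange) ⟶ pullback r b :=
      pullback.lift (l0 ≫ (U i).ι) (c ≫ Y.ι) hκw
    have hκ₀ : Set.range κ₀ ⊆ Set.range (snd ⁻¹ᵁ Y).ι := by
      rintro _ ⟨z, rfl⟩
      rw [Scheme.Opens.range_ι]
      show (κ₀ ≫ snd) z ∈ Y
      rw [show κ₀ ≫ snd = c ≫ Y.ι from pullback.lift_snd _ _ _]
      exact (c z).2
    let κ := IsOpenImmersion.lift (snd ⁻¹ᵁ Y).ι κ₀ hκ₀
    have hκ : κ ≫ (snd ⁻¹ᵁ Y).ι = κ₀ := IsOpenImmersion.lift_fac _ _ _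
    have hκc : κ ≫ (snd ∣_ Y) = c := by
      rw [← cancel_mono Y.ι, Category.assoc, morphismRestrict_ι, reassoc_of% hκ]
      exact pullback.lift_snd _ _ _
    haveI : IsSeparated (κ ≫ (snd ∣_ Y)) := by rw [hκc]; infer_instance
    haveI : IsSeparated κ := IsSeparated.of_comp κ (snd ∣_ Y)
    have hσ : g0 ≫ κ = σ := by
      rw [← cancel_mono (snd ⁻¹ᵁ Y).ι, Category.assoc, hκ, morphismRestrict_ι]
      refine pullback.hom_ext ?_ ?_
      · rw [Category.assoc, Category.assoc, pullback.lift_fst, ← Category.assoc g0,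
          show g0 ≫ l0 = l from pullback.lift_fst _ _ _, hlX]
        rfl
      · rw [Category.assoc, Category.assoc, pullback.lift_snd, reassoc_of% hg0c, morphismRestrict_ι]
        rfl
    haveI : IsClosedImmersion (g0 ≫ κ) := by rw [hσ]; infer_instance
    exact IsClosedImmersion.of_comp g0 κ
  obtain ⟨N, e, he, heb⟩ := hb
  have hπ : RelProj.IsHProjective π := by
    obtain ⟨N', e', he', he'b⟩ := isHProjective_baseChange r b ⟨N, e, he, heb⟩
    exact ⟨N', h.imageι ≫ e', inferInstance, by rw [Category.assoc, he'b]⟩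
  haveI : IsProper π := isProper_of_isHProjective hπ
  have hj : (ρ ≫ e) ≫ CohB1.ProjSpaceOver.toBase N S = π ≫ r := by rw [Category.assoc, heb, hρb]
  have hjqc : QuasiCompact (ρ ≫ e) := by
    haveI : IsProper (CohB1.ProjSpace.toSpec N (ULift.{u} ℤ)) := PnCoh.Chow.isProper_toSpec _ _
    haveI : IsSeparated (CohB1.ProjSpaceOver.toBase N S) := MorphismProperty.pullback_snd _ _ inferInstance
    haveI : QuasiCompact ((ρ ≫ e) ≫ CohB1.ProjSpaceOver.toBase N S) := by rw [hj]; infer_instance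
    exact QuasiCompact.of_comp (ρ ≫ e) (CohB1.ProjSpaceOver.toBase N S)
  refine ⟨N, h.image, π, ρ ≫ e, γ, hπ, inferInstance, hjqc, hj, ?_, hsd, inferInstance, hγπ⟩
  let V := π ⁻¹ᵁ W
  have hrangeV : Set.range γ ⊆ Set.range V.ι := by
    rintro _ ⟨w, rfl⟩
    rw [Scheme.Opens.range_ι]
    show (γ ≫ π) w ∈ W
    rw [hγπ]
    exact w.2
  let s := IsOpenImmersion.lift V.ι γ hrangeV
  have hs : s ≫ V.ι = γ := IsOpenImmersion.lift_fac _ _ _
  have hsπ : s ≫ (π ∣_ W) = 𝟙 _ := by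
    rw [← cancel_mono W.ι, Category.assoc, morphismRestrict_ι, reassoc_of% hs, hγπ, Category.id_comp]
  haveI : IsClosedImmersion (s ≫ (π ∣_ W)) := by rw [hsπ]; infer_instance
  haveI : IsClosedImmersion s := IsClosedImmersion.of_comp s (π ∣_ W)
  have hsS : Sdom s := by
    have htop : γ ⁻¹ᵁ V = ⊤ := top_le_iff.1 fun w _ => by
      have := hrangeV ⟨w, rfl⟩
      rwa [Scheme.Opens.range_ι] at this
    have e1 : γ ∣_ V = (γ ⁻¹ᵁ V).ι ≫ s := by
      rw [← cancel_mono V.ι, Category.assoc, morphismRestrict_ι, hs]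
    haveI : IsIso (γ ⁻¹ᵁ V).ι := by rw [htop, ← Scheme.topIso_hom]; infer_instance
    have := (hsd.restrict V).comp_iso (inv (γ ⁻¹ᵁ V).ι)
    rwa [e1, IsIso.inv_hom_id_assoc] at this
  haveI : IsIso s := hsS.isIso_of_factor (𝟙 _) s (Category.id_comp _)
  exact IsIso.of_isIso_fac_left hsπ

end Groth.Agent.ChowX
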