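import Groth.Agent.ChowX.Main
import Groth.Agent.ChowX.QuasiProj
import Groth.Agent.ProjX.Proper

/-!
# The hypotheses of Chow's lemma
-/

set_option backward.isDefEq.respectTransparency false
set_option backward.isDefEq.respectTransparency.types false

universe u

open CategoryTheory CategoryTheory.Limits AlgebraicGeometry TopologicalSpace

namespace Groth.Agent.ChowX

theorem hyp {X S : Scheme.{u}} (r : X ⟶ S) [LocallyOfFiniteType r] [QuasiCompact r]
    (h : AlgebraicGeometry.IsNoetherian S ∨ (CompactSpace S ∧ S.IsSeparated ∧ (irreducibleComponents X).Finite)) :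
    CompactSpace S ∧ QuasiSeparatedSpace S ∧ (irreducibleComponents X).Finite := by
  rcases h with h | ⟨h1, h2, h3⟩
  · haveI := h
    haveI : CompactSpace X := QuasiCompact.compactSpace_of_compactSpace r
    haveI : IsLocallyNoetherian X := LocallyOfFiniteType.isLocallyNoetherian r
    haveI : AlgebraicGeometry.IsNoetherian X := ⟨⟩
    exact ⟨inferInstance, inferInstance, NoetherianSpace.finite_irreducibleComponents⟩
  · exact ⟨h1, inferInstance, h3⟩

end Groth.Agent.ChowX
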